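import Cfsg.Agent.FGS4.RankThree.Srg
import Cfsg.Agent.Golay.HSGraphAut
import Cfsg.Agent.S0414
import Cfsg.Agent.Golay.Mathieu
import Cfsg.Prelude.Def_Spor_Conway

/-!
# The Higman–Sims group as a rank three group on 100 points
-/

set_option autoImplicit false
set_option maxRecDepth 20000

namespace Cfsg.Agent.FGS4.RankThree

open Cfsg Cfsg.Agent.Golay
open scoped Pointwise

theorem graph_aut_card : Nat.card (hsGraph ≃g hsGraph) = 88704000 := by
  obtain ⟨j⟩ := hsGraph_model
  rw [← pointBlock_aut_card hsPt_card hsBlocks_steiner (S0414.result hsPt_card hsBlocks_steiner).1]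
  exact Nat.card_congr
    { toFun := fun g => j.trans (g.trans j.symm)
      invFun := fun g => j.symm.trans (g.trans j)
      left_inv := fun g => RelIso.ext fun x => by simp
      right_inv := fun g => RelIso.ext fun x => by simp }

theorem eq_of_half {Γ : Type*} [Group Γ] [Finite Γ] {K₁ K₂ : Subgroup Γ} {m : ℕ} (hm : 2 < m)
    (hΓ : Nat.card Γ = 2 * m) [IsSimpleGroup K₁] (h1 : Nat.card K₁ = m) (h2 : Nat.card K₂ = m) :
    K₁ = K₂ := by
  have hidx : K₂.index = 2 := by
    have h := K₂.card_mul_index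
    rw [h2, hΓ, mul_comm 2 m] at h
    exact Nat.eq_of_mul_eq_mul_left (by omega) h
  haveI := Subgroup.normal_of_index_eq_two hidx
  refine Subgroup.eq_of_le_of_card_ge ?_ (by omega)
  rcases Subgroup.Normal.eq_bot_or_eq_top (H := K₂.subgroupOf K₁) inferInstance with h | h
  · exfalso
    have h' := (K₂.subgroupOf K₁).card_mul_index
    rw [h, Subgroup.card_bot, one_mul, h1, Subgroup.index_bot] at h'
    have hle : K₂.relIndex K₁ ≤ 2 := hidx ▸ Nat.le_of_dvd (by omega)
      (Subgroup.relIndex_dvd_index_of_normal K₂ K₁)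
    rw [Subgroup.relIndex, h, Subgroup.index_bot, h1] at hle
    omega
  · exact Subgroup.subgroupOf_eq_top.1 h

/-- The normalising element. -/
theorem exists_conj : ∃ g : ↥Co0, g • Spor.leechV = hsV ∧ g • (-(Spor.leechV + Spor.leechU')) = hsW :=
  hs_conj (v := Spor.leechV) (w := -(Spor.leechV + Spor.leechU')) (by decide +kernel)
    (by decide +kernel) (by decide +kernel)

/-- The stabiliser of the reference pair. -/
abbrev Pair : Subgroup ↥Co0 := MulAction.stabilizer ↥Co0 hsV ⊓ MulAction.stabilizer ↥Co0 hsW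

theorem pair_card : Nat.card Pair = 44352000 :=
  hs_card (v := hsV) (w := hsW) tgt_facts.2.2.2.2.2.1 tgt_facts.2.2.2.2.2.2.2.1 tgt_facts.2.2.2.2.2.2.2.2.2

theorem pair_iso : Nonempty (Spor.HS ≃* Pair) := by
  haveI := co0_finite
  obtain ⟨g, g1, g2⟩ := exists_conj
  have hfix : ∀ h : ↥Co0, h • Spor.leechV = Spor.leechV →
      (h • Spor.leechU' = Spor.leechU' ↔
        h • (-(Spor.leechV + Spor.leechU')) = -(Spor.leechV + Spor.leechU')) := fun h hv => by
    rw [co0_neg' h, co0_add, hv, neg_inj, add_right_inj]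
  have hmem : ∀ h : ↥Co0, g * h * g⁻¹ ∈ Pair ↔ (h : Equiv.Perm ↥leechLattice) ∈ Spor.HS := fun h => by
    rw [Subgroup.mem_inf, MulAction.mem_stabilizer_iff, MulAction.mem_stabilizer_iff, mul_smul,
      mul_smul, mul_smul, mul_smul, ← g1, ← g2, inv_smul_smul, inv_smul_smul, smul_left_cancel_iff,
      smul_left_cancel_iff]
    constructor
    · rintro ⟨h1, h2⟩
      exact ⟨⟨h.2, h1⟩, (hfix h h1).2 h2⟩
    · rintro ⟨⟨-, h1⟩, h2⟩
      exact ⟨h1, (hfix h h1).1 h2⟩
  refine ⟨MonoidHom.toMulEquiv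
    { toFun := fun x => ⟨g * ⟨x.1, x.2.1.1⟩ * g⁻¹, (hmem _).2 x.2⟩
      map_one' := Subtype.ext (mul_inv_eq_one.2 (mul_one g))
      map_mul' := fun x y => Subtype.ext (by
        show g * (⟨x.1, x.2.1.1⟩ * ⟨y.1, y.2.1.1⟩) * g⁻¹ = (g * _ * g⁻¹) * (g * _ * g⁻¹)
        group) }
    { toFun := fun y => ⟨((g⁻¹ * y.1 * g : ↥Co0) : Equiv.Perm ↥leechLattice), (hmem _).1 (by
        rw [show g * (g⁻¹ * y.1 * g) * g⁻¹ = y.1 by group]
        exact y.2)⟩
      map_one' := Subtype.ext (by simp)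
      map_mul' := fun x y => Subtype.ext (by simp [mul_assoc]) }
    ?_ ?_⟩
  · ext x : 2
    show ((g⁻¹ * (g * ⟨x.1, x.2.1.1⟩ * g⁻¹) * g : ↥Co0) : Equiv.Perm ↥leechLattice) = x.1
    rw [show g⁻¹ * (g * ⟨x.1, x.2.1.1⟩ * g⁻¹) * g = (⟨x.1, x.2.1.1⟩ : ↥Co0) by group]
  · ext y : 2
    show g * (g⁻¹ * y.1 * g) * g⁻¹ = y.1
    group

/-- The reference pair stabiliser acting on the graph. -/
def toAut : Pair →* (hsGraph ≃g hsGraph) :=
  have hmem : ∀ g : ↥Co0, g ∈ Pair → ∀ x ∈ hsSet hsV hsW, g • x ∈ hsSet hsV hsW := fun g hg x hx => by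
    have h1 := co0_dot g hsV x
    have h2 := co0_dot g hsW x
    rw [MulAction.mem_stabilizer_iff.1 hg.1] at h1
    rw [MulAction.mem_stabilizer_iff.1 hg.2] at h2
    exact ⟨(co0_norm g x).trans hx.1, h1.trans hx.2.1, h2.trans hx.2.2⟩
  { toFun := fun g =>
      { toFun := fun x => ⟨(g : ↥Co0) • x.1, hmem _ g.2 _ x.2⟩
        invFun := fun x => ⟨((g : ↥Co0))⁻¹ • x.1, hmem _ (inv_mem g.2) _ x.2⟩
        left_inv := fun x => Subtype.ext (inv_smul_smul _ _)
        right_inv := fun x => Subtype.ext (smul_inv_smul _ _)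
        map_rel_iff' := fun {x y} => by
          show dotInt (((g : ↥Co0) • x.1 : ↥leechLattice) : GolayPt → ℤ)
              (((g : ↥Co0) • y.1 : ↥leechLattice) : GolayPt → ℤ) = 8 ↔
            dotInt ((x.1 : ↥leechLattice) : GolayPt → ℤ) ((y.1 : ↥leechLattice) : GolayPt → ℤ) = 8
          rw [co0_dot] }
    map_one' := RelIso.ext fun x => Subtype.ext (one_smul _ _)
    map_mul' := fun g h => RelIso.ext fun x => Subtype.ext (mul_smul _ _ _) }

theorem toAut_injective : Function.Injective toAut := by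
  haveI := co0_finite
  haveI hsimp : IsSimpleGroup ↥Pair := hs_simple
  rw [← MonoidHom.ker_eq_bot_iff]
  refine (hsimp.eq_bot_or_eq_top_of_normal _ (MonoidHom.normal_ker _)).resolve_right fun h => ?_
  have hc : 1 < (hsSet hsV hsW).ncard := by rw [hs_set_ncard]; norm_num
  obtain ⟨x, hx, y, hy, hxy⟩ := (Set.one_lt_ncard (Set.finite_of_ncard_pos (by omega))).1 hc
  obtain ⟨a, a1, a2, a3⟩ := hs_set_transitive hx
  obtain ⟨b, b1, b2, b3⟩ := hs_set_transitive hy
  have hg : b * a⁻¹ ∈ Pair := ⟨by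
    show (b * a⁻¹) • hsV = hsV
    rw [mul_smul, inv_smul_eq_iff.2 a1.symm, b1], by
    show (b * a⁻¹) • hsW = hsW
    rw [mul_smul, inv_smul_eq_iff.2 a2.symm, b2]⟩
  have hk : toAut ⟨b * a⁻¹, hg⟩ = 1 := MonoidHom.mem_ker.1 (h ▸ Subgroup.mem_top _)
  have := congrArg (fun f : hsGraph ≃g hsGraph => ((f ⟨x, hx⟩).1 : ↥leechLattice)) hk
  apply hxy
  calc x = (b * a⁻¹) • x := this.symm
    _ = y := by rw [mul_smul, inv_smul_eq_iff.2 a3.symm, b3]

/-- A rank three group on 100 points with point stabiliser `M₂₂` is the Higman–Sims group. -/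
theorem isoHS {Ω : Type*} [Fintype Ω] [DecidableEq Ω] (hΩ : Fintype.card Ω = 100)
    (G : Subgroup (Equiv.Perm Ω)) [MulAction.IsPretransitive G Ω] (a b c : Ω)
    (hcard : Nat.card (MulAction.stabilizer G a) = 443520)
    (hb : (MulAction.orbit (MulAction.stabilizer G a) b).ncard = 22)
    (hc : (MulAction.orbit (MulAction.stabilizer G a) c).ncard = 77) : Spor.IsoHS G := by
  classical
  haveI := co0_finite
  haveI hsimp : IsSimpleGroup ↥Pair := hs_simple
  have hG : Nat.card G = 44352000 := by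
    rw [← (MulAction.stabilizer G a).card_mul_index, MulAction.index_stabilizer_of_transitive,
      hcard, Nat.card_eq_fintype_card, hΩ]
  obtain ⟨Δ, hdec, hsrg, hinv⟩ := srg (G := G) hΩ (by rw [hG]; norm_num) a b c hb hc
  obtain ⟨B, hB, ⟨i⟩⟩ := srg100_model hsrg a
  obtain ⟨j⟩ := steiner22_iso (by
    rw [Fintype.card_subtype, ← Δ.neighborFinset_eq_filter, Δ.card_neighborFinset_eq_degree,
      hsrg.regular a]) hsPt_card hB hsBlocks_steiner
  obtain ⟨k⟩ := hsGraph_model
  let e : Δ ≃g hsGraph := i.symm.trans (j.trans k)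
  let ψ : G →* (hsGraph ≃g hsGraph) :=
    { toFun := fun g => e.symm.trans (({ toEquiv := g.1, map_rel_iff' := fun {x y} => hinv g x y } :
        Δ ≃g Δ).trans e)
      map_one' := RelIso.ext fun x => by simp
      map_mul' := fun g h => RelIso.ext fun x => by simp }
  have hψ : Function.Injective ψ := fun g h hgh => Subtype.ext (Equiv.ext fun x => by
    have := congrArg (fun f : hsGraph ≃g hsGraph => e.symm (f (e x))) hgh
    simpa [ψ] using this)
  haveI : IsSimpleGroup toAut.range := MulEquiv.isSimpleGroup (MonoidHom.ofInjective toAut_injective).symm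
  haveI : Finite (hsGraph ≃g hsGraph) := Nat.finite_of_card_ne_zero (by rw [graph_aut_card]; norm_num)
  have he := eq_of_half (K₁ := toAut.range) (K₂ := ψ.range) (m := 44352000) (by norm_num)
    graph_aut_card (by rw [← Nat.card_congr (MonoidHom.ofInjective toAut_injective).toEquiv, pair_card])
    (by rw [← Nat.card_congr (MonoidHom.ofInjective hψ).toEquiv, hG])
  obtain ⟨f⟩ := pair_iso
  exact ⟨(MonoidHom.ofInjective hψ).trans ((MulEquiv.subgroupCongr he.symm).trans
    ((MonoidHom.ofInjective toAut_injective).symm.trans f.symm))⟩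

end Cfsg.Agent.FGS4.RankThree
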