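import Mathlib.Combinatorics.SimpleGraph.StronglyRegular
import Mathlib.GroupTheory.Perm.Cycle.Type
import Mathlib.GroupTheory.GroupAction.Quotient
import Mathlib.Tactic

/-!
# The graph of a rank three group with suborbits of sizes 1, 22, 77
-/

set_option autoImplicit false
set_option linter.unusedSectionVars false

namespace Cfsg.Agent.FGS4.RankThree

variable {V : Type*} [Fintype V] [DecidableEq V] (Γ : SimpleGraph V) [DecidableRel Γ.Adj]

/-- The number of ordered triangles is divisible by three. -/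
theorem three_dvd {n k l : ℕ} (hcard : Fintype.card V = n) (hreg : Γ.IsRegularOfDegree k)
    (hl : ∀ v w, Γ.Adj v w → Fintype.card (Γ.commonNeighbors v w) = l) : 3 ∣ n * k * l := by
  let T := {x : V × V × V // Γ.Adj x.1 x.2.1 ∧ Γ.Adj x.2.1 x.2.2 ∧ Γ.Adj x.1 x.2.2}
  let e : T ≃ Σ x : V, Σ y : Γ.neighborSet x, Γ.commonNeighbors x y.1 :=
    { toFun := fun t => ⟨t.1.1, ⟨t.1.2.1, t.2.1⟩, ⟨t.1.2.2, t.2.2.2, t.2.2.1⟩⟩
      invFun := fun s => ⟨(s.1, s.2.1.1, s.2.2.1), s.2.1.2, s.2.2.2.2, s.2.2.2.1⟩
      left_inv := fun _ => rfl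
      right_inv := fun _ => rfl }
  have hT : Fintype.card T = n * k * l := by
    rw [Fintype.card_congr e, Fintype.card_sigma]
    have : ∀ x : V, Fintype.card (Σ y : Γ.neighborSet x, Γ.commonNeighbors x y.1) = k * l := by
      intro x
      rw [Fintype.card_sigma, Finset.sum_congr rfl fun y _ => hl x y.1 y.2, Finset.sum_const,
        Finset.card_univ, smul_eq_mul, Γ.card_neighborSet_eq_degree, hreg x]
    rw [Finset.sum_congr rfl fun x _ => this x, Finset.sum_const, Finset.card_univ, smul_eq_mul,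
      hcard, mul_assoc]
  let f : Function.End T := fun t =>
    ⟨(t.1.2.1, t.1.2.2, t.1.1), t.2.2.1, t.2.2.2.symm, t.2.1.symm⟩
  haveI := Fact.mk Nat.prime_three
  have hf : f ^ 3 ^ 1 = 1 := rfl
  have h := Equiv.Perm.card_fixedPoints_modEq hf
  haveI : IsEmpty (Function.fixedPoints f) := ⟨fun t => by
    have h1 : t.1.1.2.1 = t.1.1.1 := congrArg (fun s : T => s.1.1) t.2
    exact t.1.2.1.ne h1.symm⟩
  rw [hT, @Fintype.card_eq_zero (Function.fixedPoints f)] at h
  exact Nat.modEq_zero_iff_dvd.1 h

/-- If adjacent vertices share all their other neighbours, the closed neighbourhoods partition. -/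
theorem closed_dvd {n k : ℕ} (hcard : Fintype.card V = n) (hreg : Γ.IsRegularOfDegree (k + 1))
    (hl : ∀ v w, Γ.Adj v w → Fintype.card (Γ.commonNeighbors v w) = k) : k + 2 ∣ n := by
  classical
  let f : V → Finset V := fun x => insert x (Γ.neighborFinset x)
  have hN : ∀ {x y z}, Γ.Adj x y → Γ.Adj y z → z ≠ x → Γ.Adj x z := by
    intro x y z hxy hyz hzx
    have hsub : Γ.commonNeighbors x y ⊆ Γ.neighborSet y \ {x} := fun w hw =>
      ⟨hw.2, fun e => Γ.irrefl (e ▸ hw.1)⟩
    have heq : Γ.commonNeighbors x y = Γ.neighborSet y \ {x} := by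
      refine Set.eq_of_subset_of_ncard_le hsub ?_ (Set.toFinite _)
      rw [Set.ncard_sdiff_singleton_of_mem (show x ∈ Γ.neighborSet y from hxy.symm),
        Set.ncard_eq_toFinset_card', Set.toFinset_card, Γ.card_neighborSet_eq_degree, hreg y,
        Set.ncard_eq_toFinset_card', Set.toFinset_card, hl x y hxy]
      omega
    have : z ∈ Γ.commonNeighbors x y := heq ▸ ⟨hyz, hzx⟩
    exact this.1
  have hsub : ∀ {x y}, y ∈ f x → ∀ {z}, z ∈ f y → z ∈ f x := by
    intro x y hy z hz
    simp only [f, Finset.mem_insert, SimpleGraph.mem_neighborFinset] at hy hz ⊢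
    rcases hy with rfl | hy
    · exact hz
    rcases hz with rfl | hz
    · exact Or.inr hy
    by_cases h : z = x
    · exact Or.inl h
    · exact Or.inr (hN hy hz h)
  have hsymm : ∀ {x y}, y ∈ f x → x ∈ f y := fun {x y} h => by
    simp only [f, Finset.mem_insert, SimpleGraph.mem_neighborFinset] at h ⊢
    exact h.imp Eq.symm fun h => h.symm
  have hfib : ∀ s ∈ Finset.univ.image f, (Finset.univ.filter fun x => f x = s).card = k + 2 := by
    intro s hs
    obtain ⟨x, -, rfl⟩ := Finset.mem_image.1 hs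
    have : (Finset.univ.filter fun y => f y = f x) = f x := by
      ext y
      simp only [Finset.mem_filter, Finset.mem_univ, true_and]
      refine ⟨fun h => h ▸ Finset.mem_insert_self y _, fun h => Finset.ext fun z => ?_⟩
      exact ⟨fun hz => hsub h hz, fun hz => hsub (hsymm h) hz⟩
    rw [this, Finset.card_insert_of_notMem (by simp), Γ.card_neighborFinset_eq_degree, hreg x]
  refine ⟨(Finset.univ.image f).card, ?_⟩
  rw [← hcard, ← Finset.card_univ, Finset.card_eq_sum_card_image f, Finset.sum_congr rfl hfib,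
    Finset.sum_const, smul_eq_mul, mul_comm]

variable {G : Type*} [Group G] [Finite G] [MulAction G V] [MulAction.IsPretransitive G V]

/-- A rank three action on 100 points with suborbits 22 and 77 is that of a strongly regular graph. -/
theorem srg (hV : Fintype.card V = 100) (heven : 2 ∣ Nat.card G) [FaithfulSMul G V] (a b c : V)
    (hb : (MulAction.orbit (MulAction.stabilizer G a) b).ncard = 22)
    (hc : (MulAction.orbit (MulAction.stabilizer G a) c).ncard = 77) :
    ∃ (Δ : SimpleGraph V) (_ : DecidableRel Δ.Adj), Δ.IsSRGWith 100 22 0 6 ∧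
      ∀ (g : G) (x y : V), Δ.Adj (g • x) (g • y) ↔ Δ.Adj x y := by
  classical
  set Ob := MulAction.orbit (MulAction.stabilizer G a) b
  set Oc := MulAction.orbit (MulAction.stabilizer G a) c
  let R : V → V → V → Prop := fun d x y => ∃ g : G, g • a = x ∧ g • d = y
  have hne : Ob ≠ Oc := fun h => by rw [h, hc] at hb; norm_num at hb
  have hdisj : Disjoint Ob Oc := by
    rw [Set.disjoint_left]
    intro x h1 h2
    exact hne ((MulAction.orbit_eq_iff.2 h1).symm.trans (MulAction.orbit_eq_iff.2 h2))
  have haO : ∀ d, 1 < (MulAction.orbit (MulAction.stabilizer G a) d).ncard →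
      a ∉ MulAction.orbit (MulAction.stabilizer G a) d := by
    intro d hd h
    have h1 : MulAction.orbit (MulAction.stabilizer G a) a = {a} := by
      ext x
      refine ⟨?_, fun hx => by rw [Set.mem_singleton_iff.1 hx]; exact MulAction.mem_orbit_self a⟩
      rintro ⟨g, rfl⟩
      exact g.2
    rw [← MulAction.orbit_eq_iff.2 h, h1, Set.ncard_singleton] at hd
    exact absurd hd (lt_irrefl 1)
  have hab : a ∉ Ob := haO b (lt_of_lt_of_eq (by norm_num) hb.symm)
  have hac : a ∉ Oc := haO c (lt_of_lt_of_eq (by norm_num) hc.symm)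
  have hcover : ∀ y, y = a ∨ y ∈ Ob ∨ y ∈ Oc := by
    intro y
    have h1 : (insert a (Ob ∪ Oc)).ncard = 100 := by
      rw [Set.ncard_insert_of_notMem (by simp [hab, hac]) (Set.toFinite _),
        Set.ncard_union_eq hdisj (Set.toFinite _) (Set.toFinite _), hb, hc]
    have h2 : insert a (Ob ∪ Oc) = Set.univ :=
      Set.eq_of_subset_of_ncard_le (Set.subset_univ _)
        (by rw [Set.ncard_univ, Nat.card_eq_fintype_card, hV, h1]) (Set.toFinite _)
    have := h2.symm ▸ Set.mem_univ y
    simpa using this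
  have hmem : ∀ d y, R d a y ↔ y ∈ MulAction.orbit (MulAction.stabilizer G a) d := fun d y =>
    ⟨fun ⟨g, h1, h2⟩ => ⟨⟨g, h1⟩, h2⟩, fun ⟨g, h⟩ => ⟨g.1, g.2, h⟩⟩
  have hinv : ∀ d (g : G) x y, R d (g • x) (g • y) ↔ R d x y := fun d g x y => by
    constructor
    · rintro ⟨h, h1, h2⟩
      exact ⟨g⁻¹ * h, by rw [mul_smul, h1, inv_smul_smul], by rw [mul_smul, h2, inv_smul_smul]⟩
    · rintro ⟨h, rfl, rfl⟩
      exact ⟨g * h, mul_smul _ _ _, mul_smul _ _ _⟩
  have htot : ∀ x y, x ≠ y → R b x y ∨ R c x y := fun x y hxy => by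
    obtain ⟨g, rfl⟩ := MulAction.exists_smul_eq G a x
    have e : y = g • g⁻¹ • y := (smul_inv_smul g y).symm
    rw [e, hinv, hinv, hmem, hmem]
    refine (hcover _).resolve_left fun h => hxy ?_
    rw [e, h]
  have hexcl : ∀ x y, R b x y → ¬ R c x y := fun x y h1 h2 => by
    obtain ⟨g, rfl⟩ := MulAction.exists_smul_eq G a x
    rw [← smul_inv_smul g y, hinv, hmem] at h1 h2
    exact Set.disjoint_left.1 hdisj h1 h2
  have hsymm : ∀ x y, R b x y → R b y x := by
    haveI := Fact.mk Nat.prime_two
    obtain ⟨t, ht⟩ := exists_prime_orderOf_dvd_card' 2 heven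
    obtain ⟨x, hx⟩ : ∃ x : V, t • x ≠ x := by
      by_contra h
      push Not at h
      have : t = 1 := eq_of_smul_eq_smul fun z : V => by rw [h z, one_smul]
      simp [this] at ht
    have htt : t • t • x = x := by
      rw [← mul_smul, ← pow_two, ← ht, pow_orderOf_eq_one, one_smul]
    have hself : ∀ d, R d x (t • x) → ∀ u v, R d u v → R d v u := by
      intro d hd u v huv
      have hd' : R d (t • x) x := by
        have := (hinv d t x (t • x)).2 hd
        rwa [htt] at this
      obtain ⟨g, g1, g2⟩ := hd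
      obtain ⟨h, h1, h2⟩ := huv
      rw [← h1, ← h2, hinv, ← hinv d g, g1, g2]
      exact hd'
    rcases htot x (t • x) (Ne.symm hx) with h | h
    · exact hself b h
    · intro u v huv
      have huv' : u ≠ v := by
        obtain ⟨g, rfl, rfl⟩ := huv
        exact fun e => hab (smul_left_cancel g e ▸ MulAction.mem_orbit_self b)
      exact (htot v u huv'.symm).resolve_right fun h' => hexcl u v huv (hself c h v u h')
  let Δ : SimpleGraph V :=
    { Adj := fun x y => R b x y
      symm := ⟨fun x y h => hsymm x y h⟩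
      loopless := ⟨fun x h => by
        obtain ⟨g, g1, g2⟩ := h
        exact hab (smul_left_cancel g (g1.trans g2.symm) ▸ MulAction.mem_orbit_self b)⟩ }
  have hD : ∀ x y, Δ.Adj x y ↔ R b x y := fun x y => Iff.rfl
  have hinvA : ∀ (g : G) x y, Δ.Adj (g • x) (g • y) ↔ Δ.Adj x y := hinv b
  have himg : ∀ (g : G) (x : V), Δ.neighborSet (g • x) = (g • ·) '' Δ.neighborSet x := by
    intro g x
    ext y
    refine ⟨fun h => ⟨g⁻¹ • y, ?_, smul_inv_smul g y⟩, ?_⟩
    · show Δ.Adj _ _
      rwa [← hinvA g, smul_inv_smul]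
    · rintro ⟨z, hz, rfl⟩
      exact (hinvA g x z).2 hz
  have hna : Δ.neighborSet a = Ob := Set.ext fun y => hmem b y
  have hreg : Δ.IsRegularOfDegree 22 := fun x => by
    obtain ⟨g, rfl⟩ := MulAction.exists_smul_eq G a x
    rw [← Δ.card_neighborSet_eq_degree, ← Set.toFinset_card, ← Set.ncard_eq_toFinset_card', himg,
      Set.ncard_image_of_injective _ (MulAction.injective g), hna, hb]
  have hcn : ∀ (g : G) (x y : V), Fintype.card (Δ.commonNeighbors (g • x) (g • y)) =
      Fintype.card (Δ.commonNeighbors x y) := by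
    intro g x y
    have : Δ.commonNeighbors (g • x) (g • y) = (g • ·) '' Δ.commonNeighbors x y := by
      rw [SimpleGraph.commonNeighbors, himg, himg, ← Set.image_inter (MulAction.injective g)]
      rfl
    rw [← Set.toFinset_card, ← Set.ncard_eq_toFinset_card', this,
      Set.ncard_image_of_injective _ (MulAction.injective g), Set.ncard_eq_toFinset_card',
      Set.toFinset_card]
  set l := Fintype.card (Δ.commonNeighbors a b)
  set m := Fintype.card (Δ.commonNeighbors a c)
  have hl : ∀ v w, Δ.Adj v w → Fintype.card (Δ.commonNeighbors v w) = l := by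
    rintro v w ⟨g, rfl, rfl⟩
    exact hcn g a b
  have hm : Pairwise fun v w => ¬Δ.Adj v w → Fintype.card (Δ.commonNeighbors v w) = m := by
    intro v w hne h
    obtain ⟨g, rfl, rfl⟩ := (htot v w hne).resolve_left h
    exact hcn g a c
  have hsrg : Δ.IsSRGWith 100 22 l m := ⟨hV, hreg, hl, hm⟩
  have hpar := hsrg.param_eq Δ (by norm_num)
  have hl21 : l ≤ 21 := by
    have hsub : Δ.commonNeighbors a b ⊆ Δ.neighborSet a \ {b} := fun w hw =>
      ⟨hw.1, fun e => Δ.irrefl (e ▸ hw.2)⟩
    have h := Set.ncard_le_ncard hsub (Set.toFinite _)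
    rw [Set.ncard_sdiff_singleton_of_mem (show b ∈ Δ.neighborSet a from ⟨1, one_smul _ _, one_smul _ _⟩),
      hna, hb, Set.ncard_eq_toFinset_card', Set.toFinset_card] at h
    exact h
  have h3 := three_dvd Δ hV hreg hl
  have hl0 : l = 0 := by
    have : l ≠ 21 := fun e => by
      have := closed_dvd Δ (k := 21) hV hreg (fun v w h => (hl v w h).trans e)
      omega
    obtain ⟨i, hi⟩ := h3
    rcases Nat.lt_or_ge l 21 with h | h
    · interval_cases l <;> omega
    · omega
  have hm6 : m = 6 := by rw [hl0] at hpar; omega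
  exact ⟨Δ, inferInstance, hl0 ▸ hm6 ▸ hsrg, hinvA⟩

end Cfsg.Agent.FGS4.RankThree
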